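import Cfsg.Agent.H975.Ccp.PslD

/-!
# The row `PSL_2(q)` of S4114

`row_psl2` : there are no configurations on `PSL_2(q)`.
-/

set_option autoImplicit false
set_option linter.unusedSectionVars false

namespace Cfsg.Agent.H975.Ccp

open Subgroup Cfsg Matrix Cfsg.Agent.H520
open Cfsg.Agent.ClassicalGeometry.AutPSL.Root Cfsg.Agent.ClassicalGeometry.AutPSL.Auto
  Cfsg.Agent.ClassicalGeometry.AutPSL.Main Cfsg.Agent.BpLin Cfsg.Agent.Schreier.ClassPSL
open Cfsg.Agent.H109.EndPsl Cfsg.Agent.H975.Rad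

local notation "S2" => Matrix.SpecialLinearGroup (Fin 2)
local notation "P2" => Matrix.ProjectiveSpecialLinearGroup (Fin 2)

section Main

variable {F : Type*} [Field F] [Finite F]

/-- **(b)** there are no field automorphisms of odd order in `⟨α⟩` -/
theorem false_fld' {r : ℕ} [hr : Fact r.Prime] [CharP F r] {α : MulAut (P2 F)} (h : Cfg α) {σ : F ≃+* F} {p : ℕ}
    (hp : Odd p) (hσ : σ ^ p = 1) (h1 : σ ≠ 1) (hy : lift (fld σ) ∈ zpowers α) : False := by
  let F₀ : Subfield F := RingHom.eqLocusField (σ : F →+* F) (RingHom.id F)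
  have hF₀ : ∀ y : F, y ∈ F₀ ↔ σ y = y := fun y => Iff.rfl
  by_cases h4 : 4 ≤ Nat.card F₀
  · exact false_big' h hp hσ h1 hy hF₀ h4
  · push Not at h4
    have h2 : 1 < Nat.card F₀ := Finite.one_lt_card
    have hft : Fintype F₀ := Fintype.ofFinite F₀
    have hpow : ∀ z : F, σ z = z → z ^ Nat.card F₀ = z := by
      intro z hz
      have h3 := FiniteField.pow_card (⟨z, (hF₀ z).2 hz⟩ : F₀)
      rw [← Nat.card_eq_fintype_card] at h3
      exact congrArg Subtype.val h3
    have hchar : ∀ l : ℕ, l.Prime → Nat.card F₀ = l → r = l := by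
      intro l hl hcard
      have hch : CharP F₀ r := (RingHom.charP_iff F₀.subtype F₀.subtype.injective r).2 inferInstance
      obtain ⟨n, -, hn⟩ := FiniteField.card F₀ r
      rw [← Nat.card_eq_fintype_card, hcard] at hn
      have h3 : r ∣ l := by rw [hn]; exact dvd_pow_self r n.ne_zero
      exact (Nat.prime_dvd_prime_iff_eq hr.out hl).1 h3
    have h23 : Nat.card F₀ = 2 ∨ Nat.card F₀ = 3 := by omega
    have hr23 : r = 2 ∨ r = 3 := by
      rcases h23 with h3 | h3
      · exact Or.inl (hchar 2 Nat.prime_two h3)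
      · exact Or.inr (hchar 3 Nat.prime_three h3)
    refine false_small hr23 h hp hσ h1 hy ?_
    intro x hx
    have h5 := hpow x hx
    rcases h23 with h3 | h3
    · rw [h3] at h5
      have h6 : x * (x - 1) = 0 := by linear_combination h5
      rcases mul_eq_zero.1 h6 with h7 | h7
      · exact Or.inl h7
      · exact Or.inr (Or.inl (sub_eq_zero.1 h7))
    · rw [h3] at h5
      have h6 : x * ((x - 1) * (x + 1)) = 0 := by linear_combination h5
      rcases mul_eq_zero.1 h6 with h7 | h7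
      · exact Or.inl h7
      · rcases mul_eq_zero.1 h7 with h8 | h8
        · exact Or.inr (Or.inl (sub_eq_zero.1 h8))
        · exact Or.inr (Or.inr (eq_neg_of_add_eq_zero_left h8))

/-- elements of odd prime order of `⟨α⟩` are inner, of order the characteristic -/
theorem eq_char {r : ℕ} [hr : Fact r.Prime] [CharP F r] {α : MulAut (P2 F)} (h : Cfg α) {y : MulAut (P2 F)}
    (hy : y ∈ zpowers α) {p : ℕ} (hp : p.Prime) (hp2 : p ≠ 2) (ho : orderOf y = p) :
    p = r ∧ ∃ s : P2 F, orderOf s = p ∧ MulAut.conj s ∈ zpowers α := by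
  have := Fintype.ofFinite F
  have hodd : Odd p := hp.odd_of_ne_two hp2
  obtain ⟨A, σ, rfl⟩ := surj_two r y
  have hyp : (lift (cj A * fld σ) : MulAut (P2 F)) ^ p = 1 := by rw [← ho, pow_orderOf_eq_one]
  by_cases h1 : σ = 1
  · subst h1
    rw [map_one fld, mul_one] at hyp hy ho
    obtain ⟨s, hs⟩ := inner_of_odd hodd hyp
    rw [hs] at hy ho
    have hos : orderOf s = p := by
      rw [← ho]
      exact (orderOf_injective (MulAut.conj : P2 F →* MulAut (P2 F)) (fun a b hab => conj_inj h.center_bot hab) s).symm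
    refine ⟨?_, s, hos, hy⟩
    by_contra hpr
    exact false_inn h hy hp hp2 hos hpr
  · exfalso
    rw [← map_pow, pow_type] at hyp
    have h2 : lift (cj (NA A σ p) * fld (σ ^ p)) = lift (fld (ι := Fin 2) (1 : F ≃+* F)) := by
      rw [hyp, map_one fld, map_one]
    obtain ⟨⟨c, hc⟩, hσ⟩ := injective_aux h2
    have hc' : (NA A σ p : Matrix (Fin 2) (Fin 2) F) = c • 1 := by
      rw [← hc, Matrix.scalar_apply, Matrix.smul_one_eq_diagonal]
    obtain ⟨B, hB⟩ := exists_std hp h1 hσ hc'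
    have h3 := cfg_conj h (lift (cj B))⁻¹
    have h4 := mem_zpowers_conj hy (lift (cj B))⁻¹
    rw [hB, map_mul, map_mul, map_inv] at h4
    have h5 : (lift (cj B))⁻¹ * (lift (cj B) * lift (fld σ) * (lift (cj B))⁻¹) *
        ((lift (cj B))⁻¹)⁻¹ = (lift (fld σ) : MulAut (P2 F)) := by group
    rw [h5] at h4
    exact false_fld' h3 hodd hσ h1 h4

/-- **(c)** the standard unipotent element, `r ≥ 5` or `-1` a square -/
theorem false_unip_sq {r : ℕ} [hr : Fact r.Prime] [CharP F r] (hr2 : r ≠ 2) {α : MulAut (P2 F)} (h : Cfg α)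
    (hs : MulAut.conj (pr (um (1 : F))) ∈ zpowers α) : r = 3 ∧ ¬ IsSquare (-1 : F) := by
  have h20 : (2 : F) ≠ 0 := by
    intro h1
    have h3 : r ∣ 2 := (CharP.cast_eq_zero_iff F r 2).1 (by exact_mod_cast h1)
    exact hr2 ((Nat.prime_dvd_prime_iff_eq hr.out Nat.prime_two).1 h3)
  constructor
  · by_contra hr3
    have h30 : (3 : F) ≠ 0 := by
      intro h1
      have h3 : r ∣ 3 := (CharP.cast_eq_zero_iff F r 3).1 (by exact_mod_cast h1)
      exact hr3 ((Nat.prime_dvd_prime_iff_eq hr.out Nat.prime_three).1 h3)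
    have h1 := h.eq_pow hs (g := pr (dge (Units.mk0 2 h20))) (j := 4) (by
      rw [← map_inv, ← map_mul, ← map_mul, dge_um, ← map_pow, um_pow]
      congr 2
      change (2 : F) ^ 2 * 1 = _
      push_cast
      norm_num)
    rw [← map_pow, um_pow] at h1
    have h2 := pr_um_inj h1
    push_cast at h2
    apply h30
    linear_combination h2
  · rintro ⟨i, hi⟩
    have hi0 : i ≠ 0 := by
      rintro rfl
      rw [mul_zero] at hi
      exact neg_ne_zero.2 one_ne_zero hi
    have h1 := h.sq_eq_one_of_real hs (g := pr (dge (Units.mk0 i hi0))) (by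
      rw [← map_inv, ← map_mul, ← map_mul, dge_um, ← map_inv, um_inv]
      congr 2
      change i ^ 2 * 1 = _
      rw [mul_one, pow_two, ← hi])
    rw [← map_pow, um_pow, ← map_one (pr : S2 F →* P2 F), ← um_zero] at h1
    have h2 := pr_um_inj h1
    push_cast at h2
    apply h20
    linear_combination h2

/-- an involution centralising the standard unipotent element: then `-1` is a square -/
theorem isSquare_of_inv {r : ℕ} [hr : Fact r.Prime] [CharP F r] (hr2 : r ≠ 2)
    {y : MulAut (P2 F)} (ho : orderOf y = 2) (hy : y (pr (um (1 : F))) = pr (um 1)) : IsSquare (-1 : F) := by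
  have := Fintype.ofFinite F
  have h20 : (2 : F) ≠ 0 := by
    intro h1
    have h3 : r ∣ 2 := (CharP.cast_eq_zero_iff F r 2).1 (by exact_mod_cast h1)
    exact hr2 ((Nat.prime_dvd_prime_iff_eq hr.out Nat.prime_two).1 h3)
  obtain ⟨A, τ, rfl⟩ := surj_two r y
  have hyp : (lift (cj A * fld τ) : MulAut (P2 F)) ^ 2 = 1 := orderOf_dvd_iff_pow_eq_one.1 (dvd_of_eq ho)
  rw [← map_pow, pow_type] at hyp
  have h2 : lift (cj (NA A τ 2) * fld (τ ^ 2)) = lift (fld (ι := Fin 2) (1 : F ≃+* F)) := by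
    rw [hyp, map_one fld, map_one]
  obtain ⟨⟨c, hc⟩, hτ⟩ := injective_aux h2
  have hc' : (NA A τ 2 : Matrix (Fin 2) (Fin 2) F) = c • 1 := by
    rw [← hc, Matrix.scalar_apply, Matrix.smul_one_eq_diagonal]
  rw [lift_pr, MulAut.mul_apply, fld_um, map_one] at hy
  obtain ⟨h3, h4⟩ := upper_of_comm (comm_of_fix (trace_um 1) hy)
  by_cases h1 : τ = 1
  · exfalso
    subst h1
    rw [NA_one, Units.val_pow_eq_pow_val, pow_two] at hc'
    have h5 := congrFun (congrFun hc' 0) 1
    simp [Matrix.mul_apply, Fin.sum_univ_two] at h5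
    rw [← h4] at h5
    have h6 : (A : Matrix (Fin 2) (Fin 2) F) 0 0 ≠ 0 := by
      intro h7
      have := A.isUnit
      rw [Matrix.isUnit_iff_isUnit_det] at this
      apply this.ne_zero
      rw [Matrix.det_fin_two, h3, h7, zero_mul, mul_zero, sub_zero]
    have h7 : (2 * (A : Matrix (Fin 2) (Fin 2) F) 0 0) * (A : Matrix (Fin 2) (Fin 2) F) 0 1 = 0 := by
      linear_combination h5
    have h8 := (mul_eq_zero.1 h7).resolve_left (mul_ne_zero h20 h6)
    rw [cj_eq_one_of_sc h8 h3 h4, map_one fld, mul_one, map_one, orderOf_one] at ho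
    omega
  · have hττ : ∀ y, τ (τ y) = y := by
      intro y
      rw [← RingAut.mul_apply, ← pow_two, hτ]; rfl
    obtain ⟨w, hw⟩ : ∃ w, τ w ≠ w := by
      by_contra hcon
      push Not at hcon
      exact h1 (RingEquiv.ext hcon)
    have hv : w - τ w ≠ 0 := fun h => hw (sub_eq_zero.1 h).symm
    have hτv : τ (w - τ w) = -(w - τ w) := by rw [map_sub, hττ]; ring
    obtain ⟨e, he⟩ := isSquare_mul hv ((map_ne_zero τ).2 hv) (isSquare_iff τ (w - τ w)).symm
    rw [hτv] at he
    refine ⟨e / (w - τ w), ?_⟩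
    field_simp
    linear_combination he

theorem orderOf_um {r : ℕ} [hr : Fact r.Prime] [CharP F r] : orderOf (pr (um (1 : F))) = r := by
  apply orderOf_eq_prime
  · rw [← map_pow, um_pow, CharP.cast_eq_zero, zero_mul, um_zero, map_one]
  · intro h
    rw [← map_one (pr : S2 F →* P2 F), ← um_zero] at h
    exact one_ne_zero (pr_um_inj h)

theorem two_dvd : 2 ∣ Nat.card (P2 F) := by
  have h2f : Fact (Nat.Prime 2) := ⟨Nat.prime_two⟩
  let w : S2 F := ⟨!![0, 1; -1, 0], by rw [Matrix.det_fin_two_of]; ring⟩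
  have hw : (w : Matrix (Fin 2) (Fin 2) F) = !![0, 1; -1, 0] := rfl
  have h1 : orderOf (pr w) = 2 := by
    apply orderOf_eq_prime
    · rw [← map_pow]
      apply pr_eq_one
      rw [Matrix.SpecialLinearGroup.coe_pow, pow_two, hw]
      refine ⟨?_, ?_, ?_⟩ <;> simp [Matrix.mul_apply, Fin.sum_univ_two]
    · intro h8
      rw [← map_one (pr : S2 F →* P2 F)] at h8
      obtain ⟨k, hk⟩ := exists_smul_of_pr_eq h8.symm
      have e1 := congrFun (congrFun hk 0) 1
      rw [hw] at e1
      simp at e1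
  exact (dvd_of_eq h1.symm).trans (orderOf_dvd_natCard _)

/-- **(c)** -/
theorem false_unip {r : ℕ} [hr : Fact r.Prime] [CharP F r] (hr2 : r ≠ 2) {α : MulAut (P2 F)} (h : Cfg α)
    (hs : MulAut.conj (pr (um (1 : F))) ∈ zpowers α) : False := by
  obtain ⟨hr3, hns⟩ := false_unip_sq hr2 h hs
  obtain ⟨l, hl, hlr, hld⟩ := h.exists_prime_ne hr.out (by
    rw [← orderOf_um (F := F) (r := r)]
    exact orderOf_dvd_natCard _)
  obtain ⟨y, hy, ho⟩ := exists_prime_order hl hld
  by_cases hl2 : l = 2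
  · subst hl2
    apply hns
    refine isSquare_of_inv hr2 ho ?_
    exact fix_of_comm h.center_bot (Cfg.comm_zpowers hy hs)
  · exact hlr (eq_char h hy hl hl2 ho).1

/-- **Row `PSL_2(q)`.** -/
theorem row' : Row (P2 F) := by
  intro α h
  obtain ⟨r, hch⟩ := CharP.exists F
  have hr : Fact r.Prime := ⟨CharP.char_is_prime F r⟩
  obtain ⟨p, hp, hp2, hpd⟩ := h.exists_prime_ne Nat.prime_two two_dvd
  obtain ⟨y, hy, ho⟩ := exists_prime_order hp hpd
  obtain ⟨rfl, s, hos, hs⟩ := eq_char h hy hp hp2 ho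
  obtain ⟨n, rfl, hn⟩ := exists_lift (hp.odd_of_ne_two hp2) (s := s) (by rw [← hos, pow_orderOf_eq_one])
  have hn1 : n ≠ 1 := by
    rintro rfl
    rw [map_one, orderOf_one] at hos
    exact hp.one_lt.ne hos
  obtain ⟨g, hg⟩ := exists_conj_um hn1 hn
  have hcj : cj g⁻¹ n = um 1 := by
    apply Subtype.ext
    rw [coe_cj, inv_inv, mul_assoc, hg, ← mul_assoc, ← Units.val_mul, inv_mul_cancel, Units.val_one, one_mul]
  have h2 := cfg_conj h (lift (cj g⁻¹))
  have h3 := mem_zpowers_conj hs (lift (cj g⁻¹))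
  rw [aut_conj, lift_pr, hcj] at h3
  exact false_unip hp2 h2 h3

end Main

/-- **Row `PSL_2(q)`.** -/
theorem row_psl2 {F : Type} [Field F] [Fintype F] (_ : 4 ≤ Fintype.card F) :
    Row (Matrix.ProjectiveSpecialLinearGroup (Fin 2) F) := row'

end Cfsg.Agent.H975.Ccp
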