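import Cfsg.Agent.H520.CcpCfg
import Cfsg.Agent.H975.Rad.Psl

/-!
# The row `PSL_2(q)` of S4114: generalities
-/

set_option autoImplicit false
set_option linter.unusedSectionVars false

namespace Cfsg.Agent.H975.Ccp

open Subgroup Cfsg Matrix Cfsg.Agent.H520
open Cfsg.Agent.ClassicalGeometry.AutPSL.Root Cfsg.Agent.ClassicalGeometry.AutPSL.Auto
  Cfsg.Agent.ClassicalGeometry.AutPSL.Main Cfsg.Agent.BpLin
open Cfsg.Agent.H109.EndPsl Cfsg.Agent.H975.Rad

local notation "S2" => Matrix.SpecialLinearGroup (Fin 2)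
local notation "P2" => Matrix.ProjectiveSpecialLinearGroup (Fin 2)

/-- conjugates of configurations -/
theorem cfg_conj {G : Type*} [Group G] {α : MulAut G} (h : Cfg α) (e : MulAut G) : Cfg (e * α * e⁻¹) := by
  have h1 := h.congr (e : G ≃* G)
  have h2 : MulAut.congr (e : G ≃* G) α = e * α * e⁻¹ := by
    ext x
    rfl
  rwa [h2] at h1

theorem mem_zpowers_conj {G : Type*} [Group G] {α y : MulAut G} (h : y ∈ zpowers α) (e : MulAut G) :
    e * y * e⁻¹ ∈ zpowers (e * α * e⁻¹) := by
  obtain ⟨k, rfl⟩ := h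
  exact ⟨k, by simp only [conj_zpow]⟩

section Fld

variable {F : Type*} [Field F]

/-- the norm form of a regular semisimple element is universal -/
theorem norm_form [Finite F] {t : F} (ht : t ^ 2 ≠ 4) (d : F) : ∃ x y : F, x ^ 2 + t * x * y + y ^ 2 = d := by
  have := Fintype.ofFinite F
  by_cases h2 : (2 : F) = 0
  · have hch : CharP F 2 := CharTwo.of_one_ne_zero_of_two_eq_zero one_ne_zero h2
    obtain ⟨x, hx⟩ := FiniteField.isSquare_of_char_two (F := F) (ringChar.eq F 2) d
    exact ⟨x, 0, by rw [hx]; ring⟩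
  · have hodd : Fintype.card F % 2 = 1 := by
      rcases FiniteField.even_card_iff_char_two (F := F) with h
      by_contra h0
      have h3 : ringChar F = 2 := h.2 (by omega)
      apply h2
      have := (ringChar.spec F 2).2 (by rw [h3])
      exact_mod_cast this
    have ht' : 4 - t ^ 2 ≠ 0 := fun h => ht (sub_eq_zero.1 h).symm
    obtain ⟨X, Y, hXY⟩ := FiniteField.exists_root_sum_quadratic (R := F)
      (f := Polynomial.C 1 * Polynomial.X ^ 2 + Polynomial.C 0 * Polynomial.X + Polynomial.C (-(4 * d)))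
      (g := Polynomial.C (4 - t ^ 2) * Polynomial.X ^ 2 + Polynomial.C 0 * Polynomial.X + Polynomial.C 0)
      (Polynomial.degree_quadratic one_ne_zero) (Polynomial.degree_quadratic ht') hodd
    simp only [Polynomial.eval_add, Polynomial.eval_mul, Polynomial.eval_C, Polynomial.eval_pow,
      Polynomial.eval_X] at hXY
    refine ⟨(X - t * Y) / 2, Y, ?_⟩
    field_simp
    linear_combination hXY

/-- an automorphism preserves squares -/
theorem isSquare_iff (σ : F ≃+* F) (w : F) : IsSquare (σ w) ↔ IsSquare w := by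
  constructor
  · rintro ⟨c, hc⟩
    refine ⟨σ.symm c, ?_⟩
    rw [← map_mul, ← hc, σ.symm_apply_apply]
  · rintro ⟨c, rfl⟩
    exact ⟨σ c, map_mul σ c c⟩

/-- `w σ(w)` is a square -/
theorem isSquare_mul [Finite F] {a b : F} (ha : a ≠ 0) (hb : b ≠ 0) (h : IsSquare a ↔ IsSquare b) :
    IsSquare (a * b) := by
  classical
  have := Fintype.ofFinite F
  by_cases h2 : ringChar F = 2
  · exact FiniteField.isSquare_of_char_two h2 _
  · by_cases hs : IsSquare a
    · exact hs.mul (h.1 hs)
    · have h3 : quadraticChar F (a * b) = 1 := by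
        rw [map_mul, quadraticChar_neg_one_iff_not_isSquare.2 hs,
          quadraticChar_neg_one_iff_not_isSquare.2 (fun hb => hs (h.2 hb))]
        norm_num
      exact (quadraticChar_one_iff_isSquare (mul_ne_zero ha hb)).1 h3

/-- `w N(w)` is a square, `N` the norm of a group of automorphisms of odd order `p` -/
theorem exists_norm_sq [Finite F] {σ : F ≃+* F} {p : ℕ} (hp : Odd p) (hσ : σ ^ p = 1) {w : F} (hw : w ≠ 0) :
    ∃ s : F, s ≠ 0 ∧ σ s = s ∧ IsSquare (w * s) := by
  let N : ℕ → F := fun k => ∏ i ∈ Finset.range k, (σ ^ i) w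
  have hN0 : ∀ k, N k ≠ 0 := by
    intro k
    exact Finset.prod_ne_zero_iff.2 fun i _ => (map_ne_zero (σ ^ i)).2 hw
  have hsq : ∀ k, (IsSquare (N (2 * k))) ∧ (IsSquare (N (2 * k + 1)) ↔ IsSquare w) := by
    intro k
    induction k with
    | zero =>
      refine ⟨?_, ?_⟩
      · simp [N]
      · simp [N]
    | succ k ih =>
      have h1 : N (2 * k + 2) = N (2 * k + 1) * (σ ^ (2 * k + 1)) w := Finset.prod_range_succ _ _
      have h2 : N (2 * k + 3) = N (2 * k + 2) * (σ ^ (2 * k + 2)) w := Finset.prod_range_succ _ _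
      have h3 : IsSquare (N (2 * k + 2)) := by
        rw [h1]
        exact isSquare_mul (hN0 _) ((map_ne_zero _).2 hw) (ih.2.trans (isSquare_iff _ _).symm)
      refine ⟨h3, ?_⟩
      change IsSquare (N (2 * k + 3)) ↔ _
      rw [h2]
      obtain ⟨c, hc⟩ := h3
      have hc0 : c ≠ 0 := by
        rintro rfl
        exact hN0 (2 * k + 2) (by rw [hc, mul_zero])
      rw [← isSquare_iff (σ ^ (2 * k + 2)) w, hc]
      constructor
      · rintro ⟨e, he⟩
        refine ⟨e / c, ?_⟩
        field_simp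
        linear_combination he
      · rintro ⟨e, he⟩
        exact ⟨c * e, by rw [he]; ring⟩
  refine ⟨N p, hN0 p, ?_, ?_⟩
  · have h1 : σ (N p) * w = N p * w := by
      have h2 : N (p + 1) = N p * (σ ^ p) w := Finset.prod_range_succ _ _
      have h3 : N (p + 1) = σ (N p) * w := by
        change ∏ i ∈ Finset.range (p + 1), (σ ^ i) w = _
        rw [Finset.prod_range_succ', pow_zero, RingAut.one_apply, map_prod]
        congr 1
        apply Finset.prod_congr rfl
        intro i _
        rw [pow_succ', RingAut.mul_apply]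
      rw [← h3, h2, hσ, RingAut.one_apply]
    exact mul_right_cancel₀ hw h1
  · obtain ⟨k, rfl⟩ := hp
    exact isSquare_mul hw (hN0 _) (hsq k).2.symm

/-- an automorphism fixing the fixed points of `σ` is a power of `σ` -/
theorem mem_zpowers_of_fix [Finite F] {σ τ : F ≃+* F} (h : ∀ x, σ x = x → τ x = x) : τ ∈ zpowers σ := by
  have hfin : Finite (F ≃+* F) := Finite.of_injective (fun e : F ≃+* F => (e : F → F)) DFunLike.coe_injective
  let G := zpowers σ
  have hG : ∀ x : F, x ∈ FixedPoints.subfield G F ↔ ∀ g : G, (g : F ≃+* F) x = x := fun x => Iff.rfl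
  let K := FixedPoints.subfield G F
  let t : F →ₐ[K] F := { (τ : F →+* F) with
    commutes' := by
      rintro ⟨x, hx⟩
      exact h x (hx ⟨σ, mem_zpowers σ⟩) }
  obtain ⟨g, hg⟩ := (FixedPoints.toAlgHom_bijective G F).2 t
  have h1 : (g : F ≃+* F) = τ := by
    apply RingEquiv.ext
    intro x
    exact DFunLike.congr_fun hg x
  rw [← h1]
  exact g.2

end Fld

section Sl

variable {F : Type*} [Field F]

/-- conjugation by matrices of determinant one -/
theorem cj_eq_conj {B : GL (Fin 2) F} {b : S2 F} {c : F} (hc : (B : Matrix (Fin 2) (Fin 2) F) = c • (b : Matrix (Fin 2) (Fin 2) F)) :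
    cj B = MulAut.conj b := by
  apply MulEquiv.ext
  intro g
  apply Subtype.ext
  have hc0 : c ≠ 0 := by
    rintro rfl
    have h1 := B.mul_inv
    rw [hc, zero_smul, zero_mul] at h1
    have h2 := congrFun (congrFun h1 0) 0
    simp at h2
  have h1 : (cj B g : Matrix (Fin 2) (Fin 2) F) * B = B * g := by
    rw [coe_cj, mul_assoc, ← Units.val_mul, inv_mul_cancel, Units.val_one, mul_one]
  have h2 : ((MulAut.conj b g : S2 F) : Matrix (Fin 2) (Fin 2) F) * b = b * g := by
    rw [MulAut.conj_apply, ← Matrix.SpecialLinearGroup.coe_mul, ← Matrix.SpecialLinearGroup.coe_mul,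
      inv_mul_cancel_right]
  have h3 : (cj B g : Matrix (Fin 2) (Fin 2) F) * b = b * g := by
    rw [hc, Matrix.mul_smul, Matrix.smul_mul] at h1
    exact smul_right_injective _ hc0 h1
  have h4 : ((b : S2 F) : Matrix (Fin 2) (Fin 2) F) * ((b⁻¹ : S2 F) : Matrix (Fin 2) (Fin 2) F) = 1 := by
    rw [← Matrix.SpecialLinearGroup.coe_mul, mul_inv_cancel, Matrix.SpecialLinearGroup.coe_one]
  have h5 := congrArg (fun M => M * ((b⁻¹ : S2 F) : Matrix (Fin 2) (Fin 2) F)) (h3.trans h2.symm)
  simp only [mul_assoc] at h5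
  rw [h4, mul_one, mul_one] at h5
  exact h5

theorem lift_conj (b : S2 F) : lift (MulAut.conj b) = MulAut.conj (pr b) := by
  apply MulEquiv.ext
  intro x
  obtain ⟨g, rfl⟩ := pr_surjective x
  rw [lift_pr, MulAut.conj_apply, MulAut.conj_apply, map_mul, map_mul, map_inv]

/-- **Regular semisimple elements of `SL_2(q)` are real.** -/
theorem real [Finite F] {g : S2 F} (hg : NS (g : Matrix (Fin 2) (Fin 2) F))
    (ht : (g : Matrix (Fin 2) (Fin 2) F).trace ^ 2 ≠ 4) : ∃ b : S2 F, b * g * b⁻¹ = g⁻¹ := by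
  have hcoe : ((g⁻¹ : S2 F) : Matrix (Fin 2) (Fin 2) F) = !![(g : Matrix (Fin 2) (Fin 2) F) 1 1,
      -(g : Matrix (Fin 2) (Fin 2) F) 0 1; -(g : Matrix (Fin 2) (Fin 2) F) 1 0, (g : Matrix (Fin 2) (Fin 2) F) 0 0] := by
    rw [Matrix.SpecialLinearGroup.coe_inv, Matrix.adjugate_fin_two]
  have hg' : NS ((g⁻¹ : S2 F) : Matrix (Fin 2) (Fin 2) F) := by
    rw [hcoe]
    rcases hg with h | h | h
    · left; simpa using h
    · right; left; simpa using h
    · right; right
      simp only [Matrix.of_apply, Matrix.cons_val', Matrix.cons_val_zero, Matrix.cons_val_one,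
        Matrix.cons_val_fin_one]
      intro h2
      apply h
      linear_combination -h2
  obtain ⟨B, hB⟩ := exists_conj hg hg' (by
    rw [hcoe, Matrix.trace_fin_two_of, Matrix.trace_fin_two]; ring)
  set t := (g : Matrix (Fin 2) (Fin 2) F).trace with htd
  have hdB : (B : Matrix (Fin 2) (Fin 2) F).det ≠ 0 := by
    have := B.isUnit
    rw [Matrix.isUnit_iff_isUnit_det] at this
    exact this.ne_zero
  obtain ⟨x, y, hxy⟩ := norm_form ht ((B : Matrix (Fin 2) (Fin 2) F).det)⁻¹
  let Z : Matrix (Fin 2) (Fin 2) F := x • 1 + y • (g : Matrix (Fin 2) (Fin 2) F)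
  have hZ : Z.det = ((B : Matrix (Fin 2) (Fin 2) F).det)⁻¹ := by
    have h1 := g.2
    rw [Matrix.det_fin_two] at h1
    rw [Matrix.trace_fin_two] at htd
    rw [← hxy, Matrix.det_fin_two]
    simp only [Z, Matrix.add_apply, Matrix.smul_apply, Matrix.one_apply_eq, smul_eq_mul, mul_one, ne_eq, zero_ne_one,
      not_false_eq_true, Matrix.one_apply_ne, one_ne_zero, mul_zero, zero_add]
    linear_combination y ^ 2 * h1 - x * y * htd
  let b : S2 F := ⟨(B : Matrix (Fin 2) (Fin 2) F) * Z, by rw [Matrix.det_mul, hZ, mul_inv_cancel₀ hdB]⟩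
  refine ⟨b, ?_⟩
  rw [mul_inv_eq_iff_eq_mul]
  apply Subtype.ext
  rw [Matrix.SpecialLinearGroup.coe_mul, Matrix.SpecialLinearGroup.coe_mul]
  have h1 : (g⁻¹ : S2 F).1 * (B : Matrix (Fin 2) (Fin 2) F) = B * g.1 := by
    rw [← hB]
    change (cj B g : Matrix (Fin 2) (Fin 2) F) * _ = _
    rw [coe_cj, mul_assoc, ← Units.val_mul, inv_mul_cancel, Units.val_one, mul_one]
  have h2 : Z * (g : Matrix (Fin 2) (Fin 2) F) = g * Z := by
    simp only [Z, add_mul, mul_add, Matrix.smul_mul, Matrix.mul_smul, one_mul, mul_one]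
  change (B : Matrix (Fin 2) (Fin 2) F) * Z * (g : Matrix (Fin 2) (Fin 2) F) = (g⁻¹ : S2 F).1 * (B * Z)
  rw [← mul_assoc, h1, mul_assoc, h2, mul_assoc]

/-- elements of trace `± 2` -/
theorem pow_char {r : ℕ} [hr : Fact r.Prime] [CharP F r] {g : S2 F}
    (ht : (g : Matrix (Fin 2) (Fin 2) F).trace ^ 2 = 4) : pr g ^ r = 1 := by
  have hdet := g.2
  rw [Matrix.det_fin_two] at hdet
  set t := (g : Matrix (Fin 2) (Fin 2) F).trace with htd
  rw [Matrix.trace_fin_two] at htd
  by_cases h2 : r = 2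
  · subst h2
    have h20 : (2 : F) = 0 := by exact_mod_cast CharP.cast_eq_zero F 2
    have ht0 : t = 0 := by
      have h3 : t * t = 0 := by linear_combination ht + 2 * h20
      exact mul_self_eq_zero.1 h3
    rw [← map_pow]
    apply pr_eq_one
    rw [Matrix.SpecialLinearGroup.coe_pow, pow_two]
    refine ⟨?_, ?_, ?_⟩ <;> simp only [Matrix.mul_apply, Fin.sum_univ_two]
    · linear_combination (g : Matrix (Fin 2) (Fin 2) F) 0 1 * (-htd + ht0)
    · linear_combination (g : Matrix (Fin 2) (Fin 2) F) 1 0 * (-htd + ht0)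
    · linear_combination ((g : Matrix (Fin 2) (Fin 2) F) 0 0 - (g : Matrix (Fin 2) (Fin 2) F) 1 1) * (-htd + ht0)
  · have h20 : (2 : F) ≠ 0 := by
      intro h
      have h3 : r ∣ 2 := (CharP.cast_eq_zero_iff F r 2).1 (by exact_mod_cast h)
      exact h2 ((Nat.prime_dvd_prime_iff_eq hr.out Nat.prime_two).1 h3)
    set ε : F := t / 2 with hε
    have hte : t = 2 * ε := by rw [hε]; field_simp
    have hε2 : ε ^ 2 = 1 := by
      rw [hte] at ht
      have h3 : (4 : F) * (ε ^ 2 - 1) = 0 := by linear_combination ht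
      rcases mul_eq_zero.1 h3 with h4 | h4
      · exfalso
        apply h20
        have h5 : (2 : F) * 2 = 0 := by rw [← h4]; norm_num
        exact mul_self_eq_zero.1 h5
      · exact sub_eq_zero.1 h4
    have hsq : ((g : Matrix (Fin 2) (Fin 2) F) - ε • 1) ^ 2 = 0 := by
      rw [pow_two]
      ext i j
      fin_cases i <;> fin_cases j <;>
        simp only [Matrix.mul_apply, Fin.sum_univ_two, Matrix.sub_apply, Matrix.smul_apply, Fin.zero_eta, Fin.mk_one,
          Matrix.one_apply_eq, ne_eq, one_ne_zero, not_false_eq_true, Matrix.one_apply_ne, zero_ne_one, smul_eq_mul,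
          mul_one, mul_zero, sub_zero, Matrix.zero_apply]
      · linear_combination -hdet + (g : Matrix (Fin 2) (Fin 2) F) 0 0 * (-htd + hte) + hε2
      · linear_combination (g : Matrix (Fin 2) (Fin 2) F) 0 1 * (-htd + hte)
      · linear_combination (g : Matrix (Fin 2) (Fin 2) F) 1 0 * (-htd + hte)
      · linear_combination -hdet + (g : Matrix (Fin 2) (Fin 2) F) 1 1 * (-htd + hte) + hε2
    have hch : CharP (Matrix (Fin 2) (Fin 2) F) r := Matrix.charP r
    have hpow : ((g : Matrix (Fin 2) (Fin 2) F) - ε • 1) ^ r = 0 := by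
      obtain ⟨k, hk⟩ := Nat.exists_eq_add_of_le hr.out.two_le
      rw [hk, pow_add, hsq, zero_mul]
    have hcomm : Commute (g : Matrix (Fin 2) (Fin 2) F) (ε • 1) := by
      rw [commute_iff_eq, Matrix.mul_smul, Matrix.smul_mul, mul_one, one_mul]
    rw [sub_pow_char_of_commute (p := r) hcomm, sub_eq_zero, smul_pow, one_pow] at hpow
    rw [← map_pow]
    apply pr_eq_one
    rw [Matrix.SpecialLinearGroup.coe_pow, hpow]
    refine ⟨?_, ?_, ?_⟩ <;> simp

/-- elements of order the characteristic lift to elements of order the characteristic -/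
theorem exists_lift {p : ℕ} (hp : Odd p) {s : P2 F} (hs : s ^ p = 1) : ∃ n : S2 F, pr n = s ∧ n ^ p = 1 := by
  obtain ⟨g, rfl⟩ := pr_surjective s
  refine ⟨g ^ (p + 1), by rw [map_pow, pow_succ, hs, one_mul], ?_⟩
  rw [← map_pow, ← map_one (pr : S2 F →* P2 F)] at hs
  obtain ⟨c, hc⟩ := exists_smul_of_pr_eq hs.symm
  have h1 := congrArg Matrix.det hc
  rw [(g ^ p).2, Matrix.det_smul, Matrix.SpecialLinearGroup.coe_one, Matrix.det_one, mul_one, Fintype.card_fin] at h1
  obtain ⟨k, hk⟩ : Even (p + 1) := hp.add_one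
  apply Subtype.ext
  rw [← pow_mul, mul_comm, pow_mul, Matrix.SpecialLinearGroup.coe_pow, hc, smul_pow, Matrix.SpecialLinearGroup.coe_one,
    one_pow, hk, ← two_mul, pow_mul, ← h1, one_pow, one_smul]

/-- automorphisms `cj A` of odd order are inner -/
theorem inner_of_odd {A : GL (Fin 2) F} {p : ℕ} (hp : Odd p) (hA : (lift (cj A) : MulAut (P2 F)) ^ p = 1)  :
    ∃ s : P2 F, (lift (cj A) : MulAut (P2 F)) = MulAut.conj s := by
  have hdA : (A : Matrix (Fin 2) (Fin 2) F).det ≠ 0 := by
    have := A.isUnit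
    rw [Matrix.isUnit_iff_isUnit_det] at this
    exact this.ne_zero
  let h : S2 F := ⟨((A : Matrix (Fin 2) (Fin 2) F).det)⁻¹ • (A : Matrix (Fin 2) (Fin 2) F) ^ 2, by
    rw [Matrix.det_smul, Matrix.det_pow, Fintype.card_fin, ← mul_pow, inv_mul_cancel₀ hdA, one_pow]⟩
  have h1 : (lift (cj A) : MulAut (P2 F)) ^ 2 = MulAut.conj (pr h) := by
    rw [← map_pow, ← map_pow, cj_eq_conj (B := A ^ 2) (b := h) (c := (A : Matrix (Fin 2) (Fin 2) F).det), lift_conj]
    change _ = _ • (_ • _)
    rw [smul_smul, mul_inv_cancel₀ hdA, one_smul, Units.val_pow_eq_pow_val]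
  obtain ⟨k, hk⟩ : Even (p + 1) := hp.add_one
  refine ⟨pr h ^ k, ?_⟩
  rw [map_pow, ← h1, ← pow_mul, two_mul, ← hk, pow_succ, hA, one_mul]

end Sl

end Cfsg.Agent.H975.Ccp
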