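import Cfsg.Agent.H975.Ccp.PslA
import Cfsg.Agent.SignalizersComponents.QsBasic

/-!
# The row `PSL_2(q)` of S4114: the cases
-/

set_option autoImplicit false
set_option linter.unusedSectionVars false

namespace Cfsg.Agent.H975.Ccp

open Subgroup Cfsg Matrix Cfsg.Agent.H520
open Cfsg.Agent.ClassicalGeometry.AutPSL.Root Cfsg.Agent.ClassicalGeometry.AutPSL.Auto
  Cfsg.Agent.ClassicalGeometry.AutPSL.Main Cfsg.Agent.BpLin Cfsg.Agent.Schreier.ClassPSL
open Cfsg.Agent.H109.EndPsl Cfsg.Agent.H975.Rad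

local notation "S2" => Matrix.SpecialLinearGroup (Fin 2)
local notation "P2" => Matrix.ProjectiveSpecialLinearGroup (Fin 2)

/-- quasisimple invariant subgroups of proper invariant subgroups are centralised -/
theorem fix_of_quasisimple {G : Type*} [Group G] [Finite G] {α : MulAut G} (h : Cfg α) {M E : Subgroup G}
    (hM : M ≠ ⊤) (hMi : ∀ m ∈ M, α m ∈ M) (hEM : E ≤ M) (hEi : ∀ e ∈ E, α e ∈ E) (hE : IsQuasisimple E) :
    ∀ e ∈ E, α e = e := by
  refine h.centralizes hM hMi hEM hEi hE.1.commutator_eq_top ?_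
  intro N hN hs
  apply Cfsg.Agent.SignalizersComponents.QsBasic.normal_le_center_of_ne_top hE N
  rintro rfl
  have h1 := hE.1
  have h2 := hE.2.toNontrivial
  have h3 : Nontrivial E := (QuotientGroup.mk'_surjective (center E)).nontrivial
  apply Group.IsPerfect.not_isSolvable E
  exact Group.isSolvable_of_surjective (f := (Subgroup.topEquiv : (⊤ : Subgroup E) ≃* E).toMonoidHom)
    (Subgroup.topEquiv : (⊤ : Subgroup E) ≃* E).surjective

section Main

variable {F : Type*} [Field F] [Finite F]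

/-- **(a)** inner automorphisms of odd prime order different from the characteristic -/
theorem false_inn {r : ℕ} [hr : Fact r.Prime] [CharP F r] {α : MulAut (P2 F)} (h : Cfg α) {s : P2 F}
    (hs : MulAut.conj s ∈ zpowers α) {p : ℕ} (hp : p.Prime) (hp2 : p ≠ 2) (ho : orderOf s = p) (hpr : p ≠ r) :
    False := by
  obtain ⟨g, rfl⟩ := pr_surjective s
  have hNS : NS (g : Matrix (Fin 2) (Fin 2) F) := by
    apply ns_of_ne
    intro h1
    rw [h1, orderOf_one] at ho
    exact hp.one_lt.ne ho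
  have ht : (g : Matrix (Fin 2) (Fin 2) F).trace ^ 2 ≠ 4 := by
    intro ht
    have h1 := orderOf_dvd_of_pow_eq_one (pow_char (r := r) ht)
    rw [ho] at h1
    exact hpr ((Nat.prime_dvd_prime_iff_eq hp hr.out).1 h1)
  obtain ⟨b, hb⟩ := real hNS ht
  have h2 := h.sq_eq_one_of_real hs (g := pr b) (by rw [← map_mul, ← map_inv, ← map_mul, hb, map_inv])
  have h3 := orderOf_dvd_of_pow_eq_one h2
  rw [ho] at h3
  exact hp2 ((Nat.prime_dvd_prime_iff_eq hp Nat.prime_two).1 h3)

theorem um_mul (a b : F) : um a * um b = um (a + b) := by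
  apply Subtype.ext
  rw [Matrix.SpecialLinearGroup.coe_mul, coe_um, coe_um, coe_um]
  ext i j
  fin_cases i <;> fin_cases j <;> simp [Matrix.mul_apply, Fin.sum_univ_two, add_comm]

theorem um_zero : um (0 : F) = 1 := by
  apply Subtype.ext
  rw [coe_um, Matrix.SpecialLinearGroup.coe_one]
  ext i j
  fin_cases i <;> fin_cases j <;> simp

theorem um_inv (a : F) : (um a)⁻¹ = um (-a) := by
  rw [inv_eq_iff_mul_eq_one, um_mul, add_neg_cancel, um_zero]

theorem um_pow (a : F) (n : ℕ) : um a ^ n = um (n * a) := by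
  induction n with
  | zero => rw [pow_zero, Nat.cast_zero, zero_mul, um_zero]
  | succ n ih =>
    rw [pow_succ, ih, um_mul]
    congr 1
    push_cast
    ring

theorem pr_um_inj {a b : F} (h : pr (um a) = pr (um b)) : a = b := by
  obtain ⟨c, hc⟩ := exists_smul_of_pr_eq h
  have h1 := congrFun (congrFun hc 0) 0
  have h2 := congrFun (congrFun hc 0) 1
  rw [coe_um, coe_um] at h1 h2
  simp at h1 h2
  rw [← h1, one_mul] at h2
  exact h2.symm

theorem dge_um (u : Fˣ) (a : F) : dge u * um a * (dge u)⁻¹ = um ((u : F) ^ 2 * a) := by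
  rw [mul_inv_eq_iff_eq_mul]
  apply Subtype.ext
  rw [Matrix.SpecialLinearGroup.coe_mul, Matrix.SpecialLinearGroup.coe_mul, coe_um, coe_um, coe_dge]
  ext i j
  fin_cases i <;> fin_cases j <;> simp [Matrix.mul_apply, Fin.sum_univ_two]
  field_simp

theorem fld_um (τ : F ≃+* F) (x : F) : fld τ (um x) = um (τ x) := by
  apply Subtype.ext
  ext i j
  rw [coe_fld_apply, coe_um, coe_um]
  fin_cases i <;> fin_cases j <;> simp

/-- **Field type action on a root group.** -/
theorem false_um {α : MulAut (P2 F)} (h : Cfg α) {σ τ : F ≃+* F} {p : ℕ} (hp : Odd p) (hσ : σ ^ p = 1)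
    (hτ : ∀ x, σ x = x → τ x = x) (hα : ∀ x : F, α (pr (um x)) = pr (um (τ x))) (h1 : τ ≠ 1) : False := by
  obtain ⟨t, ht⟩ : ∃ t, τ t ≠ t := by
    by_contra hcon
    push Not at hcon
    exact h1 (RingEquiv.ext hcon)
  have hw : τ t - t ≠ 0 := sub_ne_zero.2 ht
  obtain ⟨s, hs0, hs, c, hc⟩ := exists_norm_sq hp hσ hw
  have hc0 : c ≠ 0 := by
    rintro rfl
    rw [mul_zero] at hc
    exact mul_ne_zero hw hs0 hc
  have h2 : (pr (um t))⁻¹ * α (pr (um t)) = pr (um (τ t - t)) := by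
    rw [hα, ← map_inv, ← map_mul, um_inv, um_mul]
    congr 2
    ring
  let u : Fˣ := Units.mk0 (c / s) (div_ne_zero hc0 hs0)
  have h3 : dge u * um s * (dge u)⁻¹ = um (τ t - t) := by
    rw [dge_um]
    congr 1
    change (c / s) ^ 2 * s = _
    field_simp
    linear_combination -hc
  have h4 : (pr (dge u))⁻¹ * ((pr (um t))⁻¹ * α (pr (um t))) * ((pr (dge u))⁻¹)⁻¹ = pr (um s) := by
    rw [h2, ← h3, map_mul, map_mul, map_inv]
    group
  have h5 := h.ccp.eq_of_fix (g := pr (um t)) (k := (pr (dge u))⁻¹) (by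
    rw [h4, hα, hτ s hs])
  rw [hα] at h5
  exact ht (pr_um_inj h5)

/-- elements of trace two fixed modulo scalars commute with the matrix -/
theorem comm_of_fix {A : GL (Fin 2) F} {u : S2 F} (hu : (u : Matrix (Fin 2) (Fin 2) F).trace = 2)
    (h : pr (cj A u) = pr u) : (A : Matrix (Fin 2) (Fin 2) F) * u = u * A := by
  obtain ⟨c, hc⟩ := exists_smul_of_pr_eq h
  have h1 := congrArg Matrix.det hc
  rw [u.2, Matrix.det_smul, (cj A u).2, mul_one, Fintype.card_fin] at h1
  have h2 : (cj A u : Matrix (Fin 2) (Fin 2) F).trace = 2 := by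
    rw [coe_cj, Matrix.trace_mul_comm, ← mul_assoc, ← Units.val_mul, inv_mul_cancel, Units.val_one, one_mul, hu]
  have h3 := congrArg Matrix.trace hc
  rw [Matrix.trace_smul, h2, hu, smul_eq_mul] at h3
  have h4 : (c - 1) * (c - 1) = 0 := by linear_combination -h1 + h3
  have h5 : c = 1 := sub_eq_zero.1 (mul_self_eq_zero.1 h4)
  rw [h5, one_smul] at hc
  have h6 : (cj A u : Matrix (Fin 2) (Fin 2) F) * A = A * u := by
    rw [coe_cj, mul_assoc, ← Units.val_mul, inv_mul_cancel, Units.val_one, mul_one]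
  rw [← h6, ← hc]

theorem trace_um (x : F) : (um x : Matrix (Fin 2) (Fin 2) F).trace = 2 := by
  rw [coe_um, Matrix.trace_fin_two_of]; norm_num

theorem trace_lm (x : F) : (lm x : Matrix (Fin 2) (Fin 2) F).trace = 2 := by
  rw [coe_lm, Matrix.trace_fin_two_of]; norm_num

theorem upper_of_comm {A : Matrix (Fin 2) (Fin 2) F} (h : A * (um 1 : S2 F) = (um 1 : S2 F) * A) :
    A 1 0 = 0 ∧ A 0 0 = A 1 1 := by
  rw [coe_um] at h
  have h1 := congrFun (congrFun h 0) 0
  have h2 := congrFun (congrFun h 0) 1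
  simp [Matrix.mul_apply, Fin.sum_univ_two] at h1 h2
  exact ⟨h1, by linear_combination h2⟩

theorem lower_of_comm {A : Matrix (Fin 2) (Fin 2) F} (h : A * (lm 1 : S2 F) = (lm 1 : S2 F) * A) :
    A 0 1 = 0 ∧ A 0 0 = A 1 1 := by
  rw [coe_lm] at h
  have h1 := congrFun (congrFun h 0) 0
  have h2 := congrFun (congrFun h 1) 0
  simp [Matrix.mul_apply, Fin.sum_univ_two] at h1 h2
  exact ⟨h1, by linear_combination -h2⟩

theorem cj_eq_one_of_sc {A : GL (Fin 2) F} (h01 : (A : Matrix (Fin 2) (Fin 2) F) 0 1 = 0)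
    (h10 : (A : Matrix (Fin 2) (Fin 2) F) 1 0 = 0)
    (h00 : (A : Matrix (Fin 2) (Fin 2) F) 0 0 = (A : Matrix (Fin 2) (Fin 2) F) 1 1) : cj A = 1 := by
  apply cj_eq_one_of_scalar (r := (A : Matrix (Fin 2) (Fin 2) F) 0 0)
  rw [Matrix.scalar_apply]
  ext i j
  fin_cases i <;> fin_cases j <;> simp [h01, h10, h00]

/-- an automorphism commuting with a field automorphism -/
theorem exists_fixed {A : GL (Fin 2) F} {σ τ : F ≃+* F}
    (h : Commute (lift (cj A * fld τ) : MulAut (P2 F)) (lift (fld σ))) :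
    ∃ A' : GL (Fin 2) F, (∀ i j, σ ((A' : Matrix (Fin 2) (Fin 2) F) i j) = (A' : Matrix (Fin 2) (Fin 2) F) i j) ∧
      (cj A' : MulAut (S2 F)) = cj A := by
  have h1 : (lift (cj ((mg σ A)⁻¹ * A) * fld (τ * σ)) : MulAut (P2 F)) = lift (fld (σ * τ)) := by
    have h2 : lift (cj A * fld τ * fld σ) = (lift (fld σ * (cj A * fld τ)) : MulAut (P2 F)) := by
      rw [map_mul lift (cj A * fld τ), map_mul lift (fld σ)]
      exact h.eq
    have h3 : (fld σ * (cj A * fld τ) : MulAut (S2 F)) = cj (mg σ A) * fld (σ * τ) := by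
      rw [← mul_assoc, fld_mul_cj, mul_assoc, map_mul fld]
    rw [h3, map_mul lift (cj (mg σ A)), mul_assoc, ← map_mul fld] at h2
    rw [map_mul cj, map_inv, mul_assoc, map_mul lift, h2, map_inv, inv_mul_cancel_left]
  obtain ⟨⟨r, hr⟩, -⟩ := injective_aux h1
  have h2 : (A : Matrix (Fin 2) (Fin 2) F) = r • (A : Matrix (Fin 2) (Fin 2) F).map (σ : F →+* F) := by
    have h3 : (A : Matrix (Fin 2) (Fin 2) F) = (mg σ A : Matrix (Fin 2) (Fin 2) F) * ((mg σ A)⁻¹ * A : GL (Fin 2) F) := by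
      rw [← Units.val_mul, mul_inv_cancel_left]
    rw [← hr, Matrix.scalar_apply, ← Matrix.smul_one_eq_diagonal, Matrix.mul_smul, mul_one] at h3
    exact h3
  have h3 : ∀ i j, (A : Matrix (Fin 2) (Fin 2) F) i j = r * σ ((A : Matrix (Fin 2) (Fin 2) F) i j) :=
    fun i j => congrFun (congrFun h2 i) j
  obtain ⟨i₀, j₀, h0⟩ : ∃ i j, (A : Matrix (Fin 2) (Fin 2) F) i j ≠ 0 := by
    by_contra hcon
    push Not at hcon
    have h4 : (A : Matrix (Fin 2) (Fin 2) F) = 0 := by
      ext i j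
      exact hcon i j
    have h5 := A.mul_inv
    rw [h4, zero_mul] at h5
    have := congrFun (congrFun h5 0) 0
    simp at this
  have hd : (A : Matrix (Fin 2) (Fin 2) F).det ≠ 0 := by
    have := A.isUnit
    rw [Matrix.isUnit_iff_isUnit_det] at this
    exact this.ne_zero
  refine ⟨Matrix.GeneralLinearGroup.mkOfDetNeZero
    (((A : Matrix (Fin 2) (Fin 2) F) i₀ j₀)⁻¹ • (A : Matrix (Fin 2) (Fin 2) F)) ?_, ?_, ?_⟩
  · rw [Matrix.det_smul]
    exact mul_ne_zero (pow_ne_zero _ (inv_ne_zero h0)) hd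
  · intro i j
    change σ (((A : Matrix (Fin 2) (Fin 2) F) i₀ j₀)⁻¹ * (A : Matrix (Fin 2) (Fin 2) F) i j) =
      ((A : Matrix (Fin 2) (Fin 2) F) i₀ j₀)⁻¹ * (A : Matrix (Fin 2) (Fin 2) F) i j
    have h4 : σ ((A : Matrix (Fin 2) (Fin 2) F) i₀ j₀) ≠ 0 := (map_ne_zero σ).2 h0
    rw [map_mul, map_inv₀]
    have e1 := h3 i j
    have e2 := h3 i₀ j₀
    generalize σ ((A : Matrix (Fin 2) (Fin 2) F) i₀ j₀) = a at *
    generalize σ ((A : Matrix (Fin 2) (Fin 2) F) i j) = b at *
    generalize (A : Matrix (Fin 2) (Fin 2) F) i₀ j₀ = c at *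
    generalize (A : Matrix (Fin 2) (Fin 2) F) i j = d at *
    field_simp
    rw [e1, e2]
    ring
  · exact cj_smul (inv_ne_zero h0) rfl

end Main

end Cfsg.Agent.H975.Ccp
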