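import Cfsg.Agent.H975.Ccp.PslB

/-!
# The row `PSL_2(q)` of S4114: field automorphisms of odd prime order in `⟨α⟩`
-/

set_option autoImplicit false
set_option linter.unusedSectionVars false

namespace Cfsg.Agent.H975.Ccp

open Subgroup Cfsg Matrix Cfsg.Agent.H520
open Cfsg.Agent.ClassicalGeometry.AutPSL.Root Cfsg.Agent.ClassicalGeometry.AutPSL.Auto
  Cfsg.Agent.ClassicalGeometry.AutPSL.Main Cfsg.Agent.BpLin Cfsg.Agent.Schreier.ClassPSL
open Cfsg.Agent.H109.EndPsl Cfsg.Agent.H975.Rad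

local notation "S2" => Matrix.SpecialLinearGroup (Fin 2)
local notation "P2" => Matrix.ProjectiveSpecialLinearGroup (Fin 2)

section Main

variable {F : Type*} [Field F] [Finite F]

/-- the fixed points of a field automorphism of odd order -/
theorem exists_fix {σ : F ≃+* F} {p : ℕ} (hp : Odd p) (hσ : σ ^ p = 1) {x : P2 F}
    (hx : (lift (fld σ) : MulAut (P2 F)) x = x) :
    ∃ g : S2 F, pr g = x ∧ ∀ i j, σ ((g : Matrix (Fin 2) (Fin 2) F) i j) = (g : Matrix (Fin 2) (Fin 2) F) i j := by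
  obtain ⟨g, rfl⟩ := pr_surjective x
  refine ⟨g, rfl, ?_⟩
  rw [lift_pr] at hx
  obtain ⟨c, hc⟩ := exists_smul_of_pr_eq hx
  have h1 := congrArg Matrix.det hc
  rw [g.2, Matrix.det_smul, (fld σ g).2, mul_one, Fintype.card_fin] at h1
  have h2 : ∀ i j, (g : Matrix (Fin 2) (Fin 2) F) i j = c * σ ((g : Matrix (Fin 2) (Fin 2) F) i j) :=
    fun i j => congrFun (congrFun hc i) j
  have hσc : σ c = c := by
    have h4 : (c - 1) * (c + 1) = 0 := by linear_combination -h1
    rcases mul_eq_zero.1 h4 with h5 | h5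
    · rw [sub_eq_zero.1 h5, map_one]
    · rw [eq_neg_of_add_eq_zero_left h5, map_neg, map_one]
  have h3 : ∀ (k : ℕ) (i j : Fin 2), (g : Matrix (Fin 2) (Fin 2) F) i j =
      c ^ k * (σ ^ k) ((g : Matrix (Fin 2) (Fin 2) F) i j) := by
    intro k i j
    induction k with
    | zero => simp
    | succ k ih =>
      have h4 : (σ ^ k) c = c := by
        clear ih
        induction k with
        | zero => rfl
        | succ k ih => rw [pow_succ, RingAut.mul_apply, hσc, ih]
      rw [pow_succ σ, RingAut.mul_apply]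
      have h5 := congrArg (σ ^ k) (h2 i j)
      rw [map_mul, h4] at h5
      rw [h5] at ih
      rw [pow_succ, mul_assoc]
      exact ih
  obtain ⟨i₀, j₀, h0⟩ : ∃ i j, (g : Matrix (Fin 2) (Fin 2) F) i j ≠ 0 := by
    by_contra hcon
    push Not at hcon
    have h5 := g.2
    rw [Matrix.det_fin_two, hcon 0 0, hcon 0 1, zero_mul, zero_mul, sub_zero] at h5
    exact zero_ne_one h5
  have h4 := h3 p i₀ j₀
  rw [hσ, RingAut.one_apply] at h4
  have h5 : c ^ p = 1 := by
    have h6 : (c ^ p - 1) * (g : Matrix (Fin 2) (Fin 2) F) i₀ j₀ = 0 := by linear_combination -h4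
    exact sub_eq_zero.1 ((mul_eq_zero.1 h6).resolve_right h0)
  have h6 : c = 1 := by
    obtain ⟨k, rfl⟩ := hp
    rw [pow_succ, pow_mul, ← h1, one_pow, one_mul] at h5
    exact h5
  intro i j
  have h7 := h2 i j
  rw [h6, one_mul] at h7
  exact h7.symm

/-- an automorphism fixing the images of the standard unipotent elements is a field automorphism -/
theorem cj_eq_one_of_fix {A : GL (Fin 2) F} {τ : F ≃+* F}
    (hu : (lift (cj A * fld τ) : MulAut (P2 F)) (pr (um 1)) = pr (um 1))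
    (hl : (lift (cj A * fld τ) : MulAut (P2 F)) (pr (lm 1)) = pr (lm 1)) : (cj A : MulAut (S2 F)) = 1 := by
  have e1 : fld τ (um (1 : F)) = um 1 := by rw [fld_um, map_one]
  have e2 : fld τ (lm (1 : F)) = lm 1 := by
    apply Subtype.ext
    ext i j
    rw [coe_fld_apply, coe_lm]
    fin_cases i <;> fin_cases j <;> simp
  rw [lift_pr, MulAut.mul_apply, e1] at hu
  rw [lift_pr, MulAut.mul_apply, e2] at hl
  obtain ⟨h1, h2⟩ := upper_of_comm (comm_of_fix (trace_um 1) hu)
  obtain ⟨h3, -⟩ := lower_of_comm (comm_of_fix (trace_lm 1) hl)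
  exact cj_eq_one_of_sc h3 h1 h2

/-- **(b), the centraliser is not solvable.** -/
theorem false_big' {r : ℕ} [hr : Fact r.Prime] [CharP F r] {α : MulAut (P2 F)} (h : Cfg α) {σ : F ≃+* F} {p : ℕ}
    (hp : Odd p) (hσ : σ ^ p = 1) (h1 : σ ≠ 1) (hy : lift (fld σ) ∈ zpowers α) {F₀ : Subfield F}
    (hF₀ : ∀ y : F, y ∈ F₀ ↔ σ y = y) (h4 : 4 ≤ Nat.card F₀) : False := by
  have := Fintype.ofFinite F
  obtain ⟨A, τ, rfl⟩ := surj_two r α
  have hy1 : (lift (fld σ) : MulAut (P2 F)) ≠ 1 := by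
    intro hcon
    apply h1
    have h2 : (lift (cj 1 * fld σ) : MulAut (P2 F)) = lift (fld 1) := by
      rw [map_one cj, one_mul, hcon, map_one fld, map_one lift]
    exact (injective_aux h2).2
  let φ : S2 F₀ →* P2 F := (pr : S2 F →* P2 F).comp (Matrix.SpecialLinearGroup.map F₀.subtype)
  have hφ : ∀ g, φ g = pr (Matrix.SpecialLinearGroup.map F₀.subtype g) := fun _ => rfl
  have h7 : ∀ m : S2 F₀, ∀ i j, (Matrix.SpecialLinearGroup.map F₀.subtype m).1 i j = ((m.1 i j : F₀) : F) :=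
    fun m i j => H109.EndPsl.coe_map F₀.subtype m i j
  have hrange : φ.range = fixA (lift (fld σ) : MulAut (P2 F)) := by
    ext x
    constructor
    · rintro ⟨m, rfl⟩
      rw [mem_fixA, hφ, lift_pr]
      congr 1
      apply Subtype.ext
      ext i j
      rw [coe_fld_apply]
      exact (congrArg σ (h7 m i j)).trans (((hF₀ _).1 (m.1 i j).2).trans (h7 m i j).symm)
    · intro hx
      obtain ⟨g, rfl, hg⟩ := exists_fix hp hσ (mem_fixA.1 hx)
      let m₀ : Matrix (Fin 2) (Fin 2) F₀ := Matrix.of fun i j => ⟨g.1 i j, (hF₀ _).2 (hg i j)⟩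
      have hm₀ : m₀.det = 1 := by
        apply F₀.subtype.injective
        have h8 : (g : Matrix (Fin 2) (Fin 2) F).det = 1 := g.2
        rw [Matrix.det_fin_two] at h8 ⊢
        rw [map_sub, map_mul, map_mul, map_one]
        exact h8
      let m₁ : S2 F₀ := ⟨m₀, hm₀⟩
      refine ⟨m₁, ?_⟩
      rw [hφ]
      congr 1
  have hnt : Nontrivial φ.range := by
    refine ⟨⟨⟨φ (um 1), um 1, rfl⟩, 1, fun h => ?_⟩⟩
    have h8 : φ (um 1) = 1 := congrArg Subtype.val h
    rw [hφ, ← map_one (pr : S2 F →* P2 F)] at h8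
    obtain ⟨k, hk⟩ := exists_smul_of_pr_eq h8.symm
    have h6 := congrFun (congrFun hk 0) 1
    rw [h7] at h6
    have h9 : (um (1 : F₀)).1 0 1 = 1 := rfl
    rw [h9] at h6
    simp at h6
  have hquasi : IsQuasisimple φ.range :=
    Cfsg.Agent.SignalizersComponents.QuasisimpleQuotient.isQuasisimple_of_surjective φ.rangeRestrict
      φ.rangeRestrict_surjective (Cfsg.Agent.SignalizersComponents.SLQuasisimple.isQuasisimple_two h4)
  rw [hrange] at hquasi
  have hinv := Cfg.fixA_inv (Cfg.comm_zpowers hy (mem_zpowers _))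
  have hfix := fix_of_quasisimple h (Cfg.fixA_ne_top hy1) hinv le_rfl hinv hquasi
  rw [← hrange] at hfix
  have hum : ∀ (x : F) (hx : σ x = x), φ (um ⟨x, (hF₀ x).2 hx⟩) = pr (um x) := by
    intro x hx
    rw [hφ]
    congr 1
    apply Subtype.ext
    ext i j
    refine (h7 _ i j).trans ?_
    rw [coe_um, coe_um]
    fin_cases i <;> fin_cases j <;> simp
  have hlm : φ (lm 1) = pr (lm 1) := by
    rw [hφ]
    congr 1
    apply Subtype.ext
    ext i j
    refine (h7 _ i j).trans ?_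
    rw [coe_lm, coe_lm]
    fin_cases i <;> fin_cases j <;> simp
  have hA : (cj A : MulAut (S2 F)) = 1 := by
    apply cj_eq_one_of_fix (τ := τ)
    · rw [← hum 1 (map_one σ)]
      exact hfix _ ⟨_, rfl⟩
    · rw [← hlm]
      exact hfix _ ⟨_, rfl⟩
  rw [hA, one_mul] at h hfix
  have hα : ∀ x : F, (lift (fld τ) : MulAut (P2 F)) (pr (um x)) = pr (um (τ x)) := by
    intro x
    rw [lift_pr, fld_um]
  refine false_um h hp hσ ?_ hα ?_
  · intro x hx
    have h8 := hfix _ ⟨um ⟨x, (hF₀ x).2 hx⟩, rfl⟩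
    rw [hum x hx, hα] at h8
    exact pr_um_inj h8
  · rintro rfl
    apply h.ne
    rw [map_one fld, map_one lift]

/-- the companion form, rationality -/
theorem exists_comp' {g : Matrix (Fin 2) (Fin 2) F} (hg : NS g) :
    ∃ B : GL (Fin 2) F, g * (B : Matrix (Fin 2) (Fin 2) F) = (B : Matrix (Fin 2) (Fin 2) F) * Rad.comp g.det g.trace ∧
      ∀ σ : F ≃+* F, (∀ i j, σ (g i j) = g i j) → mg σ B = B := by
  have key : ∀ u v : F, (u * (g 1 0 * u + g 1 1 * v) - (g 0 0 * u + g 0 1 * v) * v ≠ 0) →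
      (∀ σ : F ≃+* F, σ u = u ∧ σ v = v) → ∃ B : GL (Fin 2) F, g * (B : Matrix (Fin 2) (Fin 2) F) =
        (B : Matrix (Fin 2) (Fin 2) F) * Rad.comp g.det g.trace ∧
      ∀ σ : F ≃+* F, (∀ i j, σ (g i j) = g i j) → mg σ B = B := by
    intro u v h huv
    let B : Matrix (Fin 2) (Fin 2) F := !![u, g 0 0 * u + g 0 1 * v; v, g 1 0 * u + g 1 1 * v]
    have hB : B.det ≠ 0 := by
      rw [Matrix.det_fin_two_of]
      exact h
    refine ⟨Matrix.GeneralLinearGroup.mkOfDetNeZero B hB, ?_, ?_⟩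
    · change g * B = B * _
      ext i j
      fin_cases i <;> fin_cases j <;>
        simp [B, Rad.comp, Matrix.mul_apply, Fin.sum_univ_two, Matrix.det_fin_two, Matrix.trace_fin_two] <;> ring
    · intro σ hσ
      apply Units.ext
      rw [coe_mg]
      change B.map (σ : F →+* F) = B
      ext i j
      fin_cases i <;> fin_cases j <;> simp [B, hσ, huv σ]
  have e0 : ∀ σ : F ≃+* F, σ 0 = 0 := fun σ => map_zero σ
  have e1 : ∀ σ : F ≃+* F, σ 1 = 1 := fun σ => map_one σ
  rcases hg with h | h | h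
  · exact key 0 1 (by simpa using h) fun σ => ⟨e0 σ, e1 σ⟩
  · exact key 1 0 (by simpa using h) fun σ => ⟨e1 σ, e0 σ⟩
  · by_cases h01 : g 0 1 = 0
    · by_cases h10 : g 1 0 = 0
      · refine key 1 1 ?_ fun σ => ⟨e1 σ, e1 σ⟩
        rw [h01, h10]
        intro h2
        apply h
        linear_combination -h2
      · exact key 1 0 (by simpa using h10) fun σ => ⟨e1 σ, e0 σ⟩
    · exact key 0 1 (by simpa using h01) fun σ => ⟨e0 σ, e1 σ⟩

/-- conjugation by the companion matrix -/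
theorem cj_comp {C : GL (Fin 2) F} {d t : F} (hC : (C : Matrix (Fin 2) (Fin 2) F) = Rad.comp d t) (hd : d ≠ 0) (e : S2 F) :
    (cj C e : Matrix (Fin 2) (Fin 2) F) = !![(e : Matrix (Fin 2) (Fin 2) F) 1 1 - t * (e : Matrix (Fin 2) (Fin 2) F) 1 0,
      -(d * (e : Matrix (Fin 2) (Fin 2) F) 1 0);
      d⁻¹ * (((e : Matrix (Fin 2) (Fin 2) F) 0 0 + t * (e : Matrix (Fin 2) (Fin 2) F) 1 0) * t -
        ((e : Matrix (Fin 2) (Fin 2) F) 0 1 + t * (e : Matrix (Fin 2) (Fin 2) F) 1 1)),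
      (e : Matrix (Fin 2) (Fin 2) F) 0 0 + t * (e : Matrix (Fin 2) (Fin 2) F) 1 0] := by
  set M := !![(e : Matrix (Fin 2) (Fin 2) F) 1 1 - t * (e : Matrix (Fin 2) (Fin 2) F) 1 0,
      -(d * (e : Matrix (Fin 2) (Fin 2) F) 1 0);
      d⁻¹ * (((e : Matrix (Fin 2) (Fin 2) F) 0 0 + t * (e : Matrix (Fin 2) (Fin 2) F) 1 0) * t -
        ((e : Matrix (Fin 2) (Fin 2) F) 0 1 + t * (e : Matrix (Fin 2) (Fin 2) F) 1 1)),
      (e : Matrix (Fin 2) (Fin 2) F) 0 0 + t * (e : Matrix (Fin 2) (Fin 2) F) 1 0] with hM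
  have h1 : (cj C e : Matrix (Fin 2) (Fin 2) F) * C = C * e := by
    rw [coe_cj, mul_assoc, ← Units.val_mul, inv_mul_cancel, Units.val_one, mul_one]
  have h2 : M * (C : Matrix (Fin 2) (Fin 2) F) = C * e := by
    rw [hC, hM, Rad.comp]
    ext i j
    fin_cases i <;> fin_cases j <;> simp [Matrix.mul_apply, Fin.sum_univ_two] <;> field_simp <;> ring
  have h3 := congrArg (fun M => M * ((C⁻¹ : GL (Fin 2) F) : Matrix (Fin 2) (Fin 2) F)) (h1.trans h2.symm)
  simp only [mul_assoc] at h3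
  rw [← Units.val_mul, mul_inv_cancel, Units.val_one, mul_one, mul_one] at h3
  exact h3

/-- **Isolation of involutory parts.** -/
theorem false_two {α : MulAut (P2 F)} (h : Cfg α) {x z : MulAut (P2 F)} (hx : x ∈ zpowers α) (hz : z ∈ zpowers α)
    (hα : α = z * x) (hx4 : x ^ 4 = 1) {e : P2 F} (he : z e = e) {m : S2 F} (hm : pr m = e⁻¹ * x e)
    (ht : (m : Matrix (Fin 2) (Fin 2) F).trace = 0) (hns : NS (m : Matrix (Fin 2) (Fin 2) F)) : False := by
  have h2f : Fact (Nat.Prime 2) := ⟨Nat.prime_two⟩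
  have h4 : orderOf x ∣ 2 ^ 2 := orderOf_dvd_of_pow_eq_one hx4
  obtain ⟨k, -, hk⟩ := (Nat.dvd_prime_pow Nat.prime_two).1 h4
  have h5 := h.pprime hx hz hα ⟨k, hk⟩
  have h6 : pr m ∈ cM x (fixA z) := by
    rw [hm]
    exact mem_cM x he
  have h7 : orderOf (pr m) = 2 := by
    apply orderOf_eq_prime
    · rw [← map_pow]
      apply pr_eq_one
      rw [Matrix.SpecialLinearGroup.coe_pow, pow_two]
      rw [Matrix.trace_fin_two] at ht
      refine ⟨?_, ?_, ?_⟩ <;> simp only [Matrix.mul_apply, Fin.sum_univ_two]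
      · linear_combination (m : Matrix (Fin 2) (Fin 2) F) 0 1 * ht
      · linear_combination (m : Matrix (Fin 2) (Fin 2) F) 1 0 * ht
      · linear_combination ((m : Matrix (Fin 2) (Fin 2) F) 0 0 - (m : Matrix (Fin 2) (Fin 2) F) 1 1) * ht
    · intro h8
      rw [← map_one (pr : S2 F →* P2 F)] at h8
      obtain ⟨c, hc⟩ := exists_smul_of_pr_eq h8.symm
      have e1 := congrFun (congrFun hc 0) 1
      have e2 := congrFun (congrFun hc 1) 0
      have e3 := congrFun (congrFun hc 0) 0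
      have e4 := congrFun (congrFun hc 1) 1
      simp at e1 e2 e3 e4
      rcases hns with h9 | h9 | h9
      · exact h9 e1
      · exact h9 e2
      · apply h9
        rw [e3, e4, sub_self]
  have h8 : 2 ∣ Nat.card (cM x (fixA z)) := by
    have h9 : orderOf (⟨pr m, h6⟩ : cM x (fixA z)) = 2 :=
      (orderOf_injective (cM x (fixA z)).subtype (subtype_injective _) ⟨pr m, h6⟩).symm.trans h7
    exact (dvd_of_eq h9.symm).trans (orderOf_dvd_natCard _)
  have h9 := Nat.dvd_gcd h8 (dvd_refl 2)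
  rw [h5] at h9
  exact absurd (Nat.dvd_one.1 h9) (by norm_num)

end Main

end Cfsg.Agent.H975.Ccp
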